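import Mathlib
import Groth.Agent.GrSegreLib.Dim

/-!
# Noether normalisation by `p`-th power substitutions
-/

set_option autoImplicit false
universe u

open scoped TensorProduct

namespace EtalePNorm

open MvPolynomial

variable {k : Type u} [Field k] {C : Type u} [CommRing C] [Algebra k C]

/-- One step of normalisation: eliminate the last variable. -/
theorem exists_substitution {p : ℕ} (hp : 0 < p) {m : ℕ} (z : Fin (m + 1) → C) (f : MvPolynomial (Fin (m + 1)) k)
    (hf : f ≠ 0) (hfz : aeval z f = 0) :
    ∃ e : Fin m → ℕ, (∀ i, p ∣ e i) ∧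
      letI := (aeval (R := k) fun i => z i.castSucc - z (Fin.last m) ^ e i).toRingHom.toAlgebra
      IsIntegral (MvPolynomial (Fin m) k) (z (Fin.last m)) := by
  classical
  let up := 2 + f.totalDegree
  let e : Fin m → ℕ := fun i => p * up ^ (i.val + 1)
  refine ⟨e, fun i => dvd_mul_right p _, ?_⟩
  let φ : MvPolynomial (Fin m) k →ₐ[k] C := aeval fun i => z i.castSucc - z (Fin.last m) ^ e i
  letI := φ.toRingHom.toAlgebra
  let D : (Fin (m + 1) →₀ ℕ) → ℕ := fun v => v (Fin.last m) + ∑ i : Fin m, e i * v i.castSucc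
  let M : (Fin (m + 1) →₀ ℕ) → Polynomial (MvPolynomial (Fin m) k) := fun v =>
    Polynomial.X ^ v (Fin.last m) * ∏ i : Fin m, (Polynomial.X ^ e i + Polynomial.C (X i)) ^ v i.castSucc
  have he : ∀ i, e i ≠ 0 := fun i => (Nat.mul_pos hp (pow_pos (by omega) _)).ne'
  have hM : ∀ v, (M v).Monic := fun v =>
    (Polynomial.monic_X_pow _).mul (Polynomial.monic_prod_of_monic _ _ fun i _ =>
      (Polynomial.monic_X_pow_add_C _ (he i)).pow _)
  have hMdeg : ∀ v, (M v).natDegree = D v := fun v => by
    simp only [M, D]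
    rw [Polynomial.Monic.natDegree_mul (Polynomial.monic_X_pow _) (Polynomial.monic_prod_of_monic _ _ fun i _ =>
      (Polynomial.monic_X_pow_add_C _ (he i)).pow _), Polynomial.natDegree_X_pow,
      Polynomial.natDegree_prod_of_monic _ _ fun i _ => (Polynomial.monic_X_pow_add_C _ (he i)).pow _]
    refine congrArg _ (Finset.sum_congr rfl fun i _ => ?_)
    rw [Polynomial.natDegree_pow, Polynomial.natDegree_X_pow_add_C, mul_comm]
  have hlt : ∀ v ∈ f.support, ∀ i, v i < up := fun v hv i =>
    lt_of_le_of_lt ((monomial_le_degreeOf i hv).trans (degreeOf_le_totalDegree f i)) (by simp only [up]; omega)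
  have hinjD : ∀ v ∈ f.support, ∀ w ∈ f.support, D v = D w → v = w := by
    intro v hv w hw hD
    have hsplit : ∀ u : Fin (m + 1) →₀ ℕ, D u = u (Fin.last m) + up * (p * ∑ i : Fin m, up ^ (i : ℕ) * u i.castSucc) := fun u => by
      simp only [D, e, Finset.mul_sum]
      refine congrArg _ (Finset.sum_congr rfl fun i _ => ?_)
      rw [pow_succ]; ring
    rw [hsplit, hsplit] at hD
    have h1 : v (Fin.last m) = w (Fin.last m) := by
      have := congrArg (· % up) hD
      simpa [Nat.add_mul_mod_self_left, Nat.mod_eq_of_lt (hlt v hv _), Nat.mod_eq_of_lt (hlt w hw _)] using this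
    rw [h1, Nat.add_left_cancel_iff, Nat.mul_left_cancel_iff (by omega : 0 < up), Nat.mul_left_cancel_iff hp] at hD
    have key : ∀ (n : ℕ) (a b : Fin n → ℕ), (∀ i, a i < up) → (∀ i, b i < up) →
        ∑ i : Fin n, up ^ (i : ℕ) * a i = ∑ i : Fin n, up ^ (i : ℕ) * b i → a = b := by
      intro n
      induction n with
      | zero => intros; exact funext fun i => i.elim0
      | succ n ih =>
        intro a b ha hb hab
        rw [Fin.sum_univ_succ, Fin.sum_univ_succ] at hab
        simp only [Fin.val_zero, pow_zero, one_mul, Fin.val_succ, pow_succ', mul_assoc, ← Finset.mul_sum] at hab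
        have h0 : a 0 = b 0 := by
          have := congrArg (· % up) hab
          simpa [Nat.add_mul_mod_self_left, Nat.mod_eq_of_lt (ha 0), Nat.mod_eq_of_lt (hb 0)] using this
        rw [h0, Nat.add_left_cancel_iff, Nat.mul_left_cancel_iff (by omega : 0 < up)] at hab
        have h1 := ih _ _ (fun i => ha i.succ) (fun i => hb i.succ) hab
        funext i
        refine Fin.cases h0 (fun j => congrFun h1 j) i
    have h2 := key m _ _ (fun i => hlt v hv i.castSucc) (fun i => hlt w hw i.castSucc) hD
    refine Finsupp.ext fun i => Fin.lastCases h1 (fun j => congrFun h2 j) i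
  obtain ⟨v₀, hv₀, hmax⟩ := Finset.exists_max_image f.support D (support_nonempty.2 hf)
  let Q : Polynomial (MvPolynomial (Fin m) k) := ∑ v ∈ f.support, Polynomial.C (MvPolynomial.C (coeff v f)) * M v
  have hQcoeff : Q.coeff (D v₀) = MvPolynomial.C (coeff v₀ f) := by
    simp only [Q, Polynomial.finsetSum_coeff, Polynomial.coeff_C_mul]
    rw [Finset.sum_eq_single v₀]
    · rw [← hMdeg, (hM v₀).coeff_natDegree, mul_one]
    · intro v hv hne
      rw [Polynomial.coeff_eq_zero_of_natDegree_lt, mul_zero]
      rw [hMdeg]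
      exact lt_of_le_of_ne (hmax v hv) fun h => hne (hinjD v hv v₀ hv₀ h)
    · exact fun h => absurd hv₀ h
  have hQdeg : Q.natDegree ≤ D v₀ := Polynomial.natDegree_sum_le_of_forall_le _ _ fun v hv =>
    (Polynomial.natDegree_C_mul_le _ _).trans ((hMdeg v).le.trans (hmax v hv))
  have ha : coeff v₀ f ≠ 0 := mem_support_iff.1 hv₀
  let Q' := Polynomial.C (MvPolynomial.C (coeff v₀ f)⁻¹) * Q
  have hmon : Q'.Monic := by
    refine Polynomial.monic_of_natDegree_le_of_coeff_eq_one (D v₀) ((Polynomial.natDegree_C_mul_le _ _).trans hQdeg) ?_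
    rw [Polynomial.coeff_C_mul, hQcoeff, ← map_mul, inv_mul_cancel₀ ha, map_one]
  refine ⟨Q', hmon, ?_⟩
  have hQ0 : Polynomial.eval₂ (algebraMap (MvPolynomial (Fin m) k) C) (z (Fin.last m)) Q = aeval z f := by
    conv_rhs => rw [f.as_sum, map_sum]
    rw [Polynomial.eval₂_finsetSum]
    refine Finset.sum_congr rfl fun v _ => ?_
    rw [Polynomial.eval₂_mul, Polynomial.eval₂_C, aeval_monomial, Finsupp.prod_fintype _ _ fun i => pow_zero _,
      Fin.prod_univ_castSucc]
    simp only [M]
    rw [Polynomial.eval₂_mul, Polynomial.eval₂_X_pow, Polynomial.eval₂_finsetProd]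
    have hC : algebraMap (MvPolynomial (Fin m) k) C (MvPolynomial.C (coeff v f)) = algebraMap k C (coeff v f) := by
      show φ (MvPolynomial.C (coeff v f)) = _
      simp [φ]
    rw [hC, mul_comm (z (Fin.last m) ^ v (Fin.last m))]
    refine congrArg _ (congrArg (· * _) (Finset.prod_congr rfl fun i _ => ?_))
    rw [Polynomial.eval₂_pow, Polynomial.eval₂_add, Polynomial.eval₂_X_pow, Polynomial.eval₂_C]
    show (z (Fin.last m) ^ e i + φ (X i)) ^ _ = _
    simp [φ]
  rw [Polynomial.eval₂_mul, hQ0, hfz, mul_zero]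

/-- Integrality over the substituted variables. -/
theorem isIntegral_substitution {m : ℕ} (z : Fin (m + 1) → C) (e : Fin m → ℕ)
    (hint : letI := (aeval (R := k) fun i => z i.castSucc - z (Fin.last m) ^ e i).toRingHom.toAlgebra
      IsIntegral (MvPolynomial (Fin m) k) (z (Fin.last m)))
    (hz : (aeval (R := k) z).toRingHom.IsIntegral) :
    (aeval (R := k) fun i => z i.castSucc - z (Fin.last m) ^ e i).toRingHom.IsIntegral := by
  let φ : MvPolynomial (Fin m) k →ₐ[k] C := aeval fun i => z i.castSucc - z (Fin.last m) ^ e i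
  letI := φ.toRingHom.toAlgebra
  let S := integralClosure (MvPolynomial (Fin m) k) C
  have hlast : z (Fin.last m) ∈ S := hint
  have hzS : ∀ i, z i ∈ S := by
    intro i
    refine Fin.lastCases hlast (fun j => ?_) i
    have h1 : φ (X j) ∈ S := S.algebraMap_mem (X j)
    have : z j.castSucc = φ (X j) + z (Fin.last m) ^ e j := by simp [φ]
    rw [this]
    exact add_mem h1 (pow_mem hlast _)
  have hrange : ∀ q : MvPolynomial (Fin (m + 1)) k, aeval z q ∈ S := by
    intro q
    induction q using MvPolynomial.induction_on with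
    | C a =>
      have : aeval z (MvPolynomial.C a) = φ (MvPolynomial.C a) := by simp [φ]
      rw [this]
      exact S.algebraMap_mem _
    | add p q hp hq => rw [map_add]; exact add_mem hp hq
    | mul_X p i hp => rw [map_mul, aeval_X]; exact mul_mem hp (hzS i)
  intro c
  obtain ⟨P, hP, hc⟩ := hz c
  haveI : Algebra.IsIntegral (MvPolynomial (Fin m) k) S := ⟨fun s => (isIntegral_algHom_iff S.val Subtype.val_injective).1 s.2⟩
  let ψ : MvPolynomial (Fin (m + 1)) k →+* S := (aeval (R := k) z).toRingHom.codRestrict S hrange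
  have hcS : IsIntegral S c := ⟨P.map ψ, hP.map ψ, by rw [Polynomial.eval₂_map]; exact hc⟩
  exact isIntegral_trans c hcS

/-- Elements modulo `p`-th powers can be adjusted to normalise. -/
theorem exists_finite_adjust (p : ℕ) [Fact p.Prime] [CharP k p] {n : ℕ} (hdim : ringKrullDim C ≤ n) :
    ∀ (r : ℕ) (z : Fin (n + r) → C) (x : Fin n → C), (aeval (R := k) z).toRingHom.IsIntegral →
      (∀ i, ∃ g : C, z (Fin.castAdd r i) = x i + g ^ p) →
      ∃ x' : Fin n → C, (aeval (R := k) x').toRingHom.IsIntegral ∧ ∀ i, ∃ g : C, x' i = x i + g ^ p := by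
  rcases subsingleton_or_nontrivial C with hC | hC
  · intro r z x _ _
    exact ⟨x, fun c => ⟨Polynomial.X, Polynomial.monic_X, Subsingleton.elim _ _⟩,
      fun i => ⟨0, Subsingleton.elim _ _⟩⟩
  haveI : CharP C p := charP_of_injective_algebraMap (algebraMap k C).injective p
  intro r
  induction r with
  | zero => intro z x hz hg; exact ⟨z, hz, hg⟩
  | succ r ih =>
    intro z x hz hg
    have hni : ¬ Function.Injective (aeval (R := k) z) := fun hinj => by
      have h1 : ringKrullDim C = ringKrullDim (MvPolynomial (Fin (n + (r + 1))) k) :=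
        (Groth.Agent.GrSegreLib.ringKrullDim_eq_of_integral_injective (aeval (R := k) z).toRingHom hinj hz).symm
      rw [MvPolynomial.ringKrullDim_of_isNoetherianRing, ringKrullDim_eq_zero_of_field, Nat.card_fin, zero_add] at h1
      rw [h1] at hdim
      have : n + (r + 1) ≤ n := by exact_mod_cast hdim
      omega
    rw [injective_iff_map_eq_zero] at hni
    push Not at hni
    obtain ⟨f, hfz, hf⟩ := hni
    obtain ⟨e, hep, hint⟩ := exists_substitution (Fact.out (p := p.Prime)).pos (m := n + r) z f hf hfz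
    refine ih _ x (isIntegral_substitution z e hint hz) fun i => ?_
    obtain ⟨g, hg⟩ := hg i
    obtain ⟨c, hc⟩ := hep (Fin.castAdd r i)
    refine ⟨g - z (Fin.last (n + r)) ^ c, ?_⟩
    rw [sub_pow_char, ← pow_mul, mul_comm c p, ← hc,
      show (Fin.castAdd r i).castSucc = Fin.castAdd (r + 1) i from Fin.ext rfl, hg]
    exact add_sub_assoc _ _ _

end EtalePNorm
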